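import Groth.Agent.Lib.Helper28.CurveAff.Integral

/-! # Finitely many points of codimension at most one of a separated integral scheme lie in an
affine open (helper28, S0217) -/

set_option autoImplicit false
universe u
open CategoryTheory CategoryTheory.Limits AlgebraicGeometry TopologicalSpace

namespace Groth.Agent.Lib.Helper28.CurveAff

variable {X : Scheme.{u}} [IsIntegral X]

theorem dim_eq_one_of_ne_generic (x : X) (hx : x ≠ genericPoint X)
    (hd : ringKrullDim (X.presheaf.stalk x) ≤ 1) : ringKrullDim (X.presheaf.stalk x) = 1 := by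
  refine dim_eq_one_of_not_isField _ hd fun hf => hx ?_
  exact eq_genericPoint_of_isField x (MulEquiv.isField hf (ex x).symm.toMulEquiv)

theorem exists_affine_of_integral [X.IsSeparated] (s : Finset X)
    (hs : ∀ x ∈ s, IsNoetherianRing (X.presheaf.stalk x) ∧
      ringKrullDim (X.presheaf.stalk x) ≤ 1) :
    ∃ U : X.Opens, IsAffineOpen U ∧ ∀ x ∈ s, x ∈ U := by
  classical
  let s' : Finset X := s.filter (fun x => x ≠ genericPoint X)
  by_cases hs' : s' = ∅
  · obtain ⟨_, ⟨U, hU, rfl⟩, hη, -⟩ := X.isBasis_affineOpens.exists_subset_of_mem_open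
      (Set.mem_univ (genericPoint X)) isOpen_univ
    refine ⟨U, hU, fun x hx => ?_⟩
    have hxη : x = genericPoint X := by
      by_contra hne
      have : x ∈ s' := Finset.mem_filter.mpr ⟨hx, hne⟩
      rw [hs'] at this
      exact absurd this (Finset.notMem_empty x)
    rw [hxη]
    exact hη
  · have hr : 1 ≤ s'.card := Finset.card_pos.mpr (Finset.nonempty_iff_ne_empty.mpr hs')
    let e : s' ≃ Fin s'.card := s'.equivFin
    let pt : Fin s'.card → X := fun i => ((e.symm i : s') : X)
    have hpt : ∀ i, pt i ∈ s ∧ pt i ≠ genericPoint X := fun i =>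
      Finset.mem_filter.mp (e.symm i).2
    have hinj : Function.Injective pt := Subtype.val_injective.comp e.symm.injective
    obtain ⟨U, hU, hUpt⟩ := exists_affine_of_dim_one hr pt hinj
      (fun i => (hs _ (hpt i).1).1)
      (fun i => dim_eq_one_of_ne_generic _ (hpt i).2 (hs _ (hpt i).1).2)
    refine ⟨U, hU, fun x hx => ?_⟩
    by_cases hxη : x = genericPoint X
    · rw [hxη]
      exact AffImg.generic_mem U ⟨pt ⟨0, hr⟩, hUpt _⟩
    · have hx' : x ∈ s' := Finset.mem_filter.mpr ⟨hx, hxη⟩
      have h1 := hUpt (e ⟨x, hx'⟩)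
      simpa [pt] using h1

end Groth.Agent.Lib.Helper28.CurveAff
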