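import Groth.Agent.S7662
import Groth.Agent.Lib.Lead.AffImgReduce
import Groth.Agent.Lib.Helper28.CurveAff.IntegralFin

/-! # Reduction to the integral case (helper28, S0217) -/

set_option autoImplicit false
universe u
open CategoryTheory CategoryTheory.Limits AlgebraicGeometry TopologicalSpace

namespace Groth.Agent.Lib.Helper28.CurveAff

theorem exists_affine_of_finite_components (X : Scheme.{u}) [X.IsSeparated]
    (hX : (irreducibleComponents (X : Type u)).Finite) (s : Finset X)
    (hs : ∀ x ∈ s, IsNoetherianRing (X.presheaf.stalk x) ∧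
      ringKrullDim (X.presheaf.stalk x) ≤ 1) :
    ∃ U : X.Opens, IsAffineOpen U ∧ ∀ x ∈ s, x ∈ U := by
  apply Groth.Agent.S7662.result X hX s
  intro Z hZ
  haveI : IsIntegral (Scheme.IdealSheafData.vanishingIdeal
      (⟨Z, isClosed_of_mem_irreducibleComponents Z hZ⟩ : Closeds X)).subscheme :=
    Groth.Agent.Lib.Lead.AffImgReduce.isIntegral_subscheme
      ⟨Z, isClosed_of_mem_irreducibleComponents Z hZ⟩ hZ.1
  haveI : (Scheme.IdealSheafData.vanishingIdeal
      (⟨Z, isClosed_of_mem_irreducibleComponents Z hZ⟩ : Closeds X)).subscheme.IsSeparated := by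
    constructor
    have h1 : terminal.from (Scheme.IdealSheafData.vanishingIdeal
        (⟨Z, isClosed_of_mem_irreducibleComponents Z hZ⟩ : Closeds X)).subscheme =
        (Scheme.IdealSheafData.vanishingIdeal
          (⟨Z, isClosed_of_mem_irreducibleComponents Z hZ⟩ : Closeds X)).subschemeι ≫
            terminal.from X := (terminal.comp_from _).symm
    rw [h1]
    infer_instance
  have hinj : Function.Injective (Scheme.IdealSheafData.vanishingIdeal
      (⟨Z, isClosed_of_mem_irreducibleComponents Z hZ⟩ : Closeds X)).subschemeι :=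
    (Scheme.IdealSheafData.vanishingIdeal
      (⟨Z, isClosed_of_mem_irreducibleComponents Z hZ⟩ : Closeds X)).subschemeι.isClosedEmbedding.injective
  let sZ : Finset (Scheme.IdealSheafData.vanishingIdeal
      (⟨Z, isClosed_of_mem_irreducibleComponents Z hZ⟩ : Closeds X)).subscheme :=
    (s.finite_toSet.preimage hinj.injOn).toFinset
  have hsZ : ∀ z, z ∈ sZ ↔ (Scheme.IdealSheafData.vanishingIdeal
      (⟨Z, isClosed_of_mem_irreducibleComponents Z hZ⟩ : Closeds X)).subschemeι z ∈ s := by
    intro z
    simp [sZ]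
  obtain ⟨V, hV, hVs⟩ := exists_affine_of_integral sZ (fun z hz => by
    have h1 := hs _ ((hsZ z).mp hz)
    have hsurj := (Scheme.IdealSheafData.vanishingIdeal
      (⟨Z, isClosed_of_mem_irreducibleComponents Z hZ⟩ : Closeds X)).subschemeι.stalkMap_surjective z
    haveI := h1.1
    exact ⟨isNoetherianRing_of_surjective _ _ _ hsurj,
      (ringKrullDim_le_of_surjective _ hsurj).trans h1.2⟩)
  refine ⟨V, hV, fun t ht htZ => ?_⟩
  obtain ⟨z, rfl⟩ : t ∈ Set.range (Scheme.IdealSheafData.vanishingIdeal
      (⟨Z, isClosed_of_mem_irreducibleComponents Z hZ⟩ : Closeds X)).subschemeι := by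
    rw [Scheme.IdealSheafData.range_subschemeι, Scheme.IdealSheafData.coe_support_vanishingIdeal]
    exact htZ
  exact ⟨z, hVs z ((hsZ z).mpr ht), rfl⟩

end Groth.Agent.Lib.Helper28.CurveAff
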