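import Mathlib

/-! # Local rings of an integral scheme inside the function field (helper28, for S0217) -/

set_option autoImplicit false
universe u
open CategoryTheory CategoryTheory.Limits AlgebraicGeometry TopologicalSpace

namespace Groth.Agent.Lib.Helper28.CurveAff

variable {X : Scheme.{u}} [IsIntegral X]

/-- The image of the local ring at `x` in the function field. -/
noncomputable def Ax (x : X) : Subring X.functionField :=
  (algebraMap (X.presheaf.stalk x) X.functionField).range

theorem algebraMap_stalk_injective (x : X) :
    Function.Injective (algebraMap (X.presheaf.stalk x) X.functionField) :=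
  IsFractionRing.injective _ _

/-- The local ring at `x` is isomorphic to its image in the function field. -/
noncomputable def ex (x : X) : X.presheaf.stalk x ≃+* Ax x :=
  RingEquiv.ofBijective (algebraMap (X.presheaf.stalk x) X.functionField).rangeRestrict
    ⟨fun a b hab => algebraMap_stalk_injective x (congrArg Subtype.val hab),
      RingHom.rangeRestrict_surjective _⟩

theorem coe_ex (x : X) (a : X.presheaf.stalk x) :
    ((ex x a : Ax x) : X.functionField) = algebraMap (X.presheaf.stalk x) X.functionField a := rfl

instance isLocalRing_Ax (x : X) : IsLocalRing (Ax x) := (ex x).isLocalRing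

instance isFractionRing_Ax (x : X) : IsFractionRing (Ax x) X.functionField := by
  apply IsFractionRing.of_field
  intro z
  obtain ⟨a, b, hb, h⟩ := IsFractionRing.div_surjective (A := X.presheaf.stalk x) z
  exact ⟨ex x a, ex x b, h.symm⟩

theorem isNoetherianRing_Ax (x : X) (h : IsNoetherianRing (X.presheaf.stalk x)) :
    IsNoetherianRing (Ax x) :=
  isNoetherianRing_of_ringEquiv _ (ex x)

theorem ringKrullDim_Ax (x : X) : ringKrullDim (Ax x) = ringKrullDim (X.presheaf.stalk x) :=
  (ringKrullDim_eq_of_ringEquiv (ex x)).symm

/-- The canonical morphism `Spec A_x ⟶ X`. -/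
noncomputable def gx (x : X) : Spec (CommRingCat.of (Ax x)) ⟶ X :=
  Spec.map (CommRingCat.ofHom (ex x).toRingHom) ≫ X.fromSpecStalk x

theorem toK_gx (x : X) :
    Spec.map (CommRingCat.ofHom (Ax x).subtype) ≫ gx x = X.fromSpecStalk (genericPoint X) := by
  rw [gx, ← Spec.map_comp_assoc]
  have : CommRingCat.ofHom (ex x).toRingHom ≫ CommRingCat.ofHom (Ax x).subtype =
      X.presheaf.stalkSpecializes ((genericPoint_spec X).specializes trivial) := by
    ext a; rfl
  rw [this, Scheme.SpecMap_stalkSpecializes_fromSpecStalk]

instance isLocalHom_ex (x : X) : IsLocalHom (CommRingCat.ofHom (ex x).toRingHom).hom := by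
  change IsLocalHom (ex x).toRingHom
  refine ⟨fun a ha => ?_⟩
  have h1 := ha.map (ex x).symm.toRingHom
  simpa using h1

theorem gx_closedPoint (x : X) : gx x (IsLocalRing.closedPoint (Ax x)) = x := by
  rw [gx, Scheme.Hom.comp_apply]
  have : Spec.map (CommRingCat.ofHom (ex x).toRingHom)
      (IsLocalRing.closedPoint (CommRingCat.of (Ax x))) =
      IsLocalRing.closedPoint (X.presheaf.stalk x) :=
    Spec_closedPoint (f := CommRingCat.ofHom (ex x).toRingHom)
  erw [this]
  exact Scheme.fromSpecStalk_closedPoint

theorem gx_generic (x : X) :
    gx x (Spec.map (CommRingCat.ofHom (Ax x).subtype)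
      (IsLocalRing.closedPoint X.functionField)) = genericPoint X := by
  rw [← Scheme.Hom.comp_apply, toK_gx]
  exact Scheme.fromSpecStalk_closedPoint

end Groth.Agent.Lib.Helper28.CurveAff
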