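import Groth.Agent.S7663
import Groth.Agent.Lib.Helper28.CurveAff.Stalk

/-! # Distinct codimension one points of a separated integral scheme have local rings
generating the function field (helper28, S0217) -/

set_option autoImplicit false
universe u
open CategoryTheory CategoryTheory.Limits AlgebraicGeometry TopologicalSpace

namespace Groth.Agent.Lib.Helper28.CurveAff

theorem dim_eq_one_of_not_isField (R : Type*) [CommRing R] [IsDomain R]
    (h : ringKrullDim R ≤ 1) (hf : ¬ IsField R) : ringKrullDim R = 1 := by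
  have h0 : ¬ ringKrullDim R ≤ 0 := fun h0 => by
    have : Ring.KrullDimLE 0 R := Ring.krullDimLE_iff.mpr h0
    exact hf Ring.KrullDimLE.isField_of_isDomain
  exact le_antisymm h (Order.succ_le_of_lt (lt_of_not_ge h0))

variable {X : Scheme.{u}} [IsIntegral X]

/-- The generic point of `Spec A_x`, as the image of the point of `Spec K`. -/
theorem SpecMap_subtype_closedPoint (x : X) :
    (Spec.map (CommRingCat.ofHom (Ax x).subtype)
      (IsLocalRing.closedPoint X.functionField) : PrimeSpectrum (Ax x)).asIdeal = ⊥ := by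
  ext a
  change (Ax x).subtype a ∈ IsLocalRing.maximalIdeal X.functionField ↔ a ∈ (⊥ : Ideal (Ax x))
  rw [IsLocalRing.maximalIdeal_eq_bot, Ideal.mem_bot, Ideal.mem_bot]
  exact ⟨fun h => Subtype.ext h, fun h => by rw [h]; rfl⟩

theorem eq_genericPoint_of_isField (x : X) (h : IsField (Ax x)) : x = genericPoint X := by
  rw [← gx_closedPoint x, ← gx_generic x]
  congr 1
  apply PrimeSpectrum.ext
  rw [SpecMap_subtype_closedPoint]
  letI := h.toField
  exact IsLocalRing.maximalIdeal_eq_bot

theorem SpecMap_inclusion_closedPoint (z : X) (hdz : ringKrullDim (X.presheaf.stalk z) = 1)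
    (O : ValuationSubring X.functionField) [IsDiscreteValuationRing O]
    (hzO : Ax z ≤ O.toSubring) :
    Spec.map (CommRingCat.ofHom (Subring.inclusion hzO : Ax z →+* O))
      (IsLocalRing.closedPoint O) = IsLocalRing.closedPoint (Ax z) := by
  apply PrimeSpectrum.ext
  change Ideal.comap (Subring.inclusion hzO : Ax z →+* O) (IsLocalRing.maximalIdeal O) =
    IsLocalRing.maximalIdeal (Ax z)
  have hprime : (Ideal.comap (Subring.inclusion hzO : Ax z →+* O)
      (IsLocalRing.maximalIdeal O)).IsPrime := Ideal.comap_isPrime _ _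
  have hne : Ideal.comap (Subring.inclusion hzO : Ax z →+* O) (IsLocalRing.maximalIdeal O) ≠ ⊥ := by
    intro hbot
    -- every nonzero element of `A_z` is a unit of `O`
    have hunit : ∀ b : Ax z, b ≠ 0 → ((b : X.functionField))⁻¹ ∈ O := by
      intro b hb
      have h1 : (Subring.inclusion hzO : Ax z →+* O) b ∉ IsLocalRing.maximalIdeal O := by
        intro hmem
        have : b ∈ Ideal.comap (Subring.inclusion hzO : Ax z →+* O)
            (IsLocalRing.maximalIdeal O) := hmem
        rw [hbot, Ideal.mem_bot] at this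
        exact hb this
      have h2 : IsUnit ((Subring.inclusion hzO : Ax z →+* O) b) := by
        by_contra hnu
        exact h1 ((IsLocalRing.mem_maximalIdeal _).mpr hnu)
      obtain ⟨u, hu⟩ := h2
      have h3 : ((u⁻¹ : Oˣ) : O) * (Subring.inclusion hzO : Ax z →+* O) b = 1 := by
        rw [← hu]; exact u.inv_mul
      have h4 : (((u⁻¹ : Oˣ) : O) : X.functionField) * (b : X.functionField) = 1 :=
        congrArg Subtype.val h3
      have hb' : (b : X.functionField) ≠ 0 := fun h0 => hb (Subtype.ext h0)
      have h5 : ((b : X.functionField))⁻¹ = (((u⁻¹ : Oˣ) : O) : X.functionField) := by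
        field_simp
        rw [mul_comm] at h4
        exact h4.symm
      rw [h5]
      exact ((u⁻¹ : Oˣ) : O).2
    have hall : ∀ k : X.functionField, k ∈ O := by
      intro k
      obtain ⟨a, b, hb, hk⟩ := IsFractionRing.div_surjective (A := Ax z) k
      have hb0 : b ≠ 0 := nonZeroDivisors.ne_zero hb
      rw [← hk, div_eq_mul_inv]
      exact O.mul_mem _ _ (hzO a.2) (hunit b hb0)
    obtain ⟨ϖ, hϖ⟩ := IsDiscreteValuationRing.exists_irreducible O
    have hϖ0 : (ϖ : X.functionField) ≠ 0 := fun h0 => hϖ.ne_zero (Subtype.ext h0)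
    apply hϖ.not_isUnit
    refine IsUnit.of_mul_eq_one ⟨(ϖ : X.functionField)⁻¹, hall _⟩ ?_
    apply Subtype.ext
    change (ϖ : X.functionField) * (ϖ : X.functionField)⁻¹ = 1
    exact mul_inv_cancel₀ hϖ0
  have hmax : (Ideal.comap (Subring.inclusion hzO : Ax z →+* O)
      (IsLocalRing.maximalIdeal O)).IsMaximal :=
    Ring.krullDimLE_one_iff_of_noZeroDivisors.mp
      (Ring.krullDimLE_iff.mpr (by rw [ringKrullDim_Ax, hdz]; rfl)) _ hne hprime
  exact IsLocalRing.eq_maximalIdeal hmax

theorem sup_eq_top [X.IsSeparated] (x y : X) (hxy : x ≠ y)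
    (hNx : IsNoetherianRing (X.presheaf.stalk x))
    (hdx : ringKrullDim (X.presheaf.stalk x) = 1)
    (hdy : ringKrullDim (X.presheaf.stalk y) = 1) : Ax x ⊔ Ax y = ⊤ := by
  by_contra hne
  haveI := isNoetherianRing_Ax x hNx
  obtain ⟨O, hO, hxO, hyO⟩ := (Groth.Agent.S7663.result X.functionField (Ax x) (Ax y)
    (by rw [ringKrullDim_Ax, hdx])).mp hne
  haveI := hO
  have hcomp : ∀ (z : X) (hzO : Ax z ≤ O.toSubring),
      Spec.map (CommRingCat.ofHom O.subtype) ≫
        Spec.map (CommRingCat.ofHom (Subring.inclusion hzO : Ax z →+* O)) ≫ gx z =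
      X.fromSpecStalk (genericPoint X) := by
    intro z hzO
    rw [← toK_gx z, ← Spec.map_comp_assoc]
    rfl
  haveI : IsDominant (Spec.map (CommRingCat.ofHom O.subtype)) := by
    constructor
    change DenseRange (PrimeSpectrum.comap O.subtype)
    rw [PrimeSpectrum.denseRange_comap_iff_ker_le_nilRadical]
    rw [(RingHom.injective_iff_ker_eq_bot _).mp Subtype.val_injective]
    exact bot_le
  have heq : Spec.map (CommRingCat.ofHom (Subring.inclusion hxO : Ax x →+* O)) ≫ gx x =
      Spec.map (CommRingCat.ofHom (Subring.inclusion hyO : Ax y →+* O)) ≫ gx y :=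
    ext_of_isDominant (Spec.map (CommRingCat.ofHom O.subtype))
      ((hcomp x hxO).trans (hcomp y hyO).symm)
  have h1 := congrArg (fun f => f (IsLocalRing.closedPoint O)) heq
  simp only [Scheme.Hom.comp_apply] at h1
  erw [SpecMap_inclusion_closedPoint x hdx O hxO, SpecMap_inclusion_closedPoint y hdy O hyO,
    gx_closedPoint, gx_closedPoint] at h1
  exact hxy h1

end Groth.Agent.Lib.Helper28.CurveAff
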