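import Groth.Agent.Lib.Helper28.CurveAff.StalkIso

/-! # Gluing the maps `Spec A_x ⟶ X` over the spectrum of the intersection (helper28, S0217) -/

set_option autoImplicit false
universe u
open CategoryTheory CategoryTheory.Limits AlgebraicGeometry TopologicalSpace

namespace Groth.Agent.Lib.Helper28.CurveAff

theorem isDominant_SpecMap_of_injective {R S : Type u} [CommRing R] [CommRing S] (f : R →+* S)
    (hf : Function.Injective f) : IsDominant (Spec.map (CommRingCat.ofHom f)) := by
  constructor
  change DenseRange (PrimeSpectrum.comap f)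
  rw [PrimeSpectrum.denseRange_comap_iff_ker_le_nilRadical,
    (RingHom.injective_iff_ker_eq_bot _).mp hf]
  exact bot_le

variable {X : Scheme.{u}} [IsIntegral X] {r : ℕ} (pt : Fin r → X)

/-- The intersection of the local rings at the points `pt i`. -/
noncomputable abbrev AA : Subring X.functionField := ⨅ i, Ax (pt i)

/-- The map `Spec A_{x_i} ⟶ Spec (⋂ A_{x_j})`. -/
noncomputable abbrev ιA (i : Fin r) :
    Spec (CommRingCat.of (Ax (pt i))) ⟶ Spec (CommRingCat.of (AA pt)) :=
  Spec.map (CommRingCat.ofHom (Subring.inclusion (iInf_le (fun i => Ax (pt i)) i)))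

/-- The hypotheses provided by the glueing lemma for semilocal rings of dimension one. -/
structure Hyp : Prop where
  oi : ∀ i, IsOpenImmersion (ιA pt i)
  cov : (⋃ i, Set.range (ιA pt i).base) = Set.univ

variable {pt}

/-- The open cover of `Spec (⋂ A_{x_j})` by the `Spec A_{x_i}`. -/
noncomputable def cover (h : Hyp pt) : (Spec (CommRingCat.of (AA pt))).OpenCover where
  I₀ := Fin r
  X i := Spec (CommRingCat.of (Ax (pt i)))
  f i := ιA pt i
  mem₀ := by
    rw [Scheme.presieve₀_mem_precoverage_iff]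
    refine ⟨fun p => ?_, fun k => h.oi k⟩
    have hp : p ∈ ⋃ i, Set.range (ιA pt i).base := by rw [h.cov]; trivial
    obtain ⟨i, hi⟩ := Set.mem_iUnion.mp hp
    exact ⟨i, hi⟩

theorem toK_ιA (i : Fin r) :
    Spec.map (CommRingCat.ofHom (Ax (pt i)).subtype) ≫ ιA pt i =
      Spec.map (CommRingCat.ofHom (AA pt).subtype) := by
  rw [← Spec.map_comp]
  rfl

theorem compat [X.IsSeparated] (h : Hyp pt) (i j : Fin r) :
    pullback.fst (ιA pt i) (ιA pt j) ≫ gx (pt i) =
      pullback.snd (ιA pt i) (ιA pt j) ≫ gx (pt j) := by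
  haveI := h.oi i
  haveI := h.oi j
  let w : Spec (CommRingCat.of X.functionField) ⟶ pullback (ιA pt i) (ιA pt j) :=
    pullback.lift (Spec.map (CommRingCat.ofHom (Ax (pt i)).subtype))
      (Spec.map (CommRingCat.ofHom (Ax (pt j)).subtype)) (by rw [toK_ιA, toK_ιA])
  haveI : IsReduced (pullback (ιA pt i) (ιA pt j)) :=
    isReduced_of_isOpenImmersion (pullback.fst (ιA pt i) (ιA pt j))
  haveI : IsDominant w := by
    haveI : IsDominant (w ≫ pullback.fst (ιA pt i) (ιA pt j)) := by
      rw [pullback.lift_fst]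
      exact isDominant_SpecMap_of_injective _ Subtype.val_injective
    exact IsDominant.of_comp_of_isOpenImmersion w (pullback.fst (ιA pt i) (ιA pt j))
  apply ext_of_isDominant w
  rw [pullback.lift_fst_assoc, pullback.lift_snd_assoc, toK_gx, toK_gx]

/-- The glued morphism `Spec (⋂ A_{x_j}) ⟶ X`. -/
noncomputable def gA [X.IsSeparated] (h : Hyp pt) : Spec (CommRingCat.of (AA pt)) ⟶ X :=
  (cover h).glueMorphisms (fun i => gx (pt i)) (compat h)

theorem ιA_gA [X.IsSeparated] (h : Hyp pt) (i : Fin r) : ιA pt i ≫ gA h = gx (pt i) :=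
  (cover h).ι_glueMorphisms (fun i => gx (pt i)) (compat h) i

theorem toK_gA [X.IsSeparated] (h : Hyp pt) (i : Fin r) :
    Spec.map (CommRingCat.ofHom (AA pt).subtype) ≫ gA h = X.fromSpecStalk (genericPoint X) := by
  rw [← toK_ιA i, Category.assoc, ιA_gA, toK_gx]

end Groth.Agent.Lib.Helper28.CurveAff
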