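import Groth.Agent.S7665
import Groth.Agent.Lib.Helper28.CurveAff.GlueMap
import Groth.Agent.Lib.Helper28.CurveAff.Gen
import Groth.Agent.Lib.Helper28.AffImg.Integral

/-! # Finitely many codimension one points of a separated integral scheme lie in an affine open
(helper28, S0217) -/

set_option autoImplicit false
universe u
open CategoryTheory CategoryTheory.Limits AlgebraicGeometry TopologicalSpace

namespace Groth.Agent.Lib.Helper28.CurveAff

theorem SpecMap_subtype_closedPoint' {K : Type u} [Field K] (B : Subring K) :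
    (Spec.map (CommRingCat.ofHom B.subtype)
      (IsLocalRing.closedPoint K) : PrimeSpectrum B).asIdeal = ⊥ := by
  ext a
  change B.subtype a ∈ IsLocalRing.maximalIdeal K ↔ a ∈ (⊥ : Ideal B)
  rw [IsLocalRing.maximalIdeal_eq_bot, Ideal.mem_bot, Ideal.mem_bot]
  exact ⟨fun h => Subtype.ext h, fun h => by rw [h]; rfl⟩

variable {X : Scheme.{u}} [IsIntegral X]

theorem exists_affine_of_dim_one [X.IsSeparated] {r : ℕ} (hr : 1 ≤ r) (pt : Fin r → X)
    (hinj : Function.Injective pt)
    (hN : ∀ i, IsNoetherianRing (X.presheaf.stalk (pt i)))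
    (hd : ∀ i, ringKrullDim (X.presheaf.stalk (pt i)) = 1) :
    ∃ U : X.Opens, IsAffineOpen U ∧ ∀ i, pt i ∈ U := by
  haveI : ∀ i, IsNoetherianRing (Ax (pt i)) := fun i => isNoetherianRing_Ax _ (hN i)
  obtain ⟨-, -, -, -, hoi, hcov, -⟩ := Groth.Agent.S7665.result X.functionField r hr
    (fun i => Ax (pt i)) (fun i => by rw [ringKrullDim_Ax, hd]) (fun i => inferInstance)
    (fun i j hij => sup_eq_top _ _ (hinj.ne hij) (hN i) (hd i) (hd j))
  have h : Hyp pt := ⟨hoi, hcov⟩
  have hgen : gA h (genericPoint (Spec (CommRingCat.of (AA pt)))) = genericPoint X := by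
    have h1 : genericPoint (Spec (CommRingCat.of (AA pt))) =
        Spec.map (CommRingCat.ofHom (AA pt).subtype) (IsLocalRing.closedPoint X.functionField) := by
      rw [genericPoint_eq_bot_of_affine]
      apply PrimeSpectrum.ext
      rw [SpecMap_subtype_closedPoint']
      rfl
    rw [h1, ← Scheme.Hom.comp_apply, toK_gA h ⟨0, hr⟩]
    exact Scheme.fromSpecStalk_closedPoint
  classical
  let s : Finset (Spec (CommRingCat.of (AA pt))) :=
    Finset.univ.image (fun i => ιA pt i (IsLocalRing.closedPoint (Ax (pt i))))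
  have hs : ∀ t ∈ s, IsIso ((gA h).stalkMap t) := by
    intro t ht
    obtain ⟨i, -, rfl⟩ := Finset.mem_image.mp ht
    haveI := h.oi i
    refine AffImg.isIso_stalkMap_of_comp (ιA pt i) (gA h) (IsLocalRing.closedPoint (Ax (pt i)))
      ?_ ?_
    · rw [ιA_gA]
      exact isIso_stalkMap_gx (pt i)
    · exact ((ConcreteCategory.isIso_iff_bijective _).mp inferInstance).1
  obtain ⟨U, hU, hUs⟩ := AffImg.integral_case (gA h) hgen s hs
  refine ⟨U, hU, fun i => ?_⟩
  have h1 := hUs (ιA pt i (IsLocalRing.closedPoint (Ax (pt i))))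
    (Finset.mem_image_of_mem _ (Finset.mem_univ i))
  rw [← Scheme.Hom.comp_apply, ιA_gA, gx_closedPoint] at h1
  exact h1

end Groth.Agent.Lib.Helper28.CurveAff
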