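import Groth.Agent.Lib.Helper28.CurveAff.Stalk

/-! # The stalk map of `Spec A_x ⟶ X` at the closed point is an isomorphism (helper28, S0217) -/

set_option autoImplicit false
universe u
open CategoryTheory CategoryTheory.Limits AlgebraicGeometry TopologicalSpace

namespace Groth.Agent.Lib.Helper28.CurveAff

variable {X : Scheme.{u}} [IsIntegral X]

theorem isIso_ofHom_ex (x : X) : IsIso (CommRingCat.ofHom (ex x).toRingHom) :=
  inferInstanceAs (IsIso (ex x).toCommRingCatIso.hom)

theorem stalkClosedPointTo_gx (x : X) :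
    Scheme.stalkClosedPointTo (gx x) =
      (X.presheaf.stalkCongr (by rw [gx_closedPoint]; exact Inseparable.refl x)).hom ≫
        CommRingCat.ofHom (ex x).toRingHom := by
  refine TopCat.Presheaf.stalk_hom_ext _ fun U hxU => ?_
  have h1 := Scheme.germ_stalkClosedPointTo_Spec_fromSpecStalk
    (CommRingCat.ofHom (ex x).toRingHom) U hxU
  refine h1.trans ?_
  rw [TopCat.Presheaf.stalkCongr_hom, TopCat.Presheaf.germ_stalkSpecializes_assoc]

theorem isIso_stalkMap_gx (x : X) :
    IsIso ((gx x).stalkMap (IsLocalRing.closedPoint (Ax x))) := by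
  haveI := isIso_ofHom_ex x
  have h1 : IsIso (Scheme.stalkClosedPointTo (gx x)) := by
    rw [stalkClosedPointTo_gx]
    exact IsIso.comp_isIso' inferInstance (isIso_ofHom_ex x)
  have h2 : (gx x).stalkMap (IsLocalRing.closedPoint (Ax x)) =
      Scheme.stalkClosedPointTo (gx x) ≫ (stalkClosedPointIso (CommRingCat.of (Ax x))).inv := by
    rw [Scheme.stalkClosedPointTo, Category.assoc, Iso.hom_inv_id, Category.comp_id]
  rw [h2]
  infer_instance

end Groth.Agent.Lib.Helper28.CurveAff
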